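import Groth.Agent.Lib.FinSupp15.Twist
import Groth.Agent.Lib.AbVanish15.KLFinite
import Groth.Agent.Lib.PolSym15.Basic
import Groth.Agent.Lib.Poincare.PicZeroPts
import Groth.Agent.Lib.Cube.AffineComplement
import Groth.Agent.Lib.Cube.AmpleCrit
import Groth.Agent.Lib.HomFG.Curve
import Groth.Agent.Lib.CurveThrough5.Basic
import Groth.Agent.Lib.CurveResol29.Basic
import Groth.Agent.Lib.NormFib.Cokernel
import Groth.Agent.Lib.CharRing.Nagata
import Groth.Agent.Lib.N2.Scheme8
import Groth.Agent.Lib.QCoh.SupportPullback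
import Groth.Agent.Lib.QCoh.SupportExact

/-!
# Coherent modules fixed by all of Pic⁰ of an abelian variety have finite support
-/

set_option autoImplicit false
set_option linter.all false
set_option backward.isDefEq.respectTransparency false
set_option maxHeartbeats 1000000

universe u

open CategoryTheory CategoryTheory.Limits AlgebraicGeometry Opposite TopologicalSpace
open MonoidalCategory CartesianMonoidalCategory
open GrothLib.Ample GrothLib.Cube
open scoped MonObj

noncomputable section

namespace GrothLib.FinSupp15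

variable {k : Type u} [Field k] [IsAlgClosed k] {A At : Over (Spec (CommRingCat.of k))} [GrpObj A] [GrpObj At]
  [IsProper A.hom] [Smooth A.hom] [GeometricallyIntegral A.hom] [IsProper At.hom]

/-- An infinite closed set contains the image of a smooth proper curve, finitely. -/
theorem exists_normal_curve {Sset : Set A.left} (hc : IsClosed Sset) (hinf : Sset.Infinite) :
    ∃ (T : Over (Spec (CommRingCat.of k))) (g : T ⟶ A), IsProper T.hom ∧ GeometricallyIntegral T.hom ∧
      IsIntegral T.left ∧ IsFinite g.left ∧ (∀ z : T.left, IsPrincipalIdealRing (T.left.presheaf.stalk z)) ∧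
      (∀ z : T.left, g.left z ∈ Sset) ∧ (∃ z z' : T.left, z ≠ z') := by
  haveI : IsLocallyNoetherian A.left := LocallyOfFiniteType.isLocallyNoetherian A.hom
  haveI : CompactSpace A.left := QuasiCompact.compactSpace_of_compactSpace A.hom
  haveI : IsNoetherian A.left := ⟨⟩
  obtain ⟨y, hy, hyc⟩ : ∃ y ∈ Sset, ¬ IsClosed ({y} : Set A.left) := by
    by_contra h
    push_neg at h
    exact hinf (CurveThrough5.finite_of_closed_points hc h)
  let cl : Closeds A.left := ⟨closure {y}, isClosed_closure⟩
  let I := Scheme.IdealSheafData.vanishingIdeal cl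
  have hr : Set.range I.subschemeι = closure {y} := RedSub.range_subschemeι_vanishingIdeal _
  haveI : IsIntegral I.subscheme := Euler.isIntegral_vanishingIdeal _ isIrreducible_singleton.closure
  obtain ⟨y', hy', hne⟩ : ∃ y' ∈ closure ({y} : Set A.left), y' ≠ y := by
    by_contra h
    push_neg at h
    refine hyc ?_
    rw [show ({y} : Set A.left) = closure {y} from Set.Subset.antisymm subset_closure fun z hz => h z hz]
    exact isClosed_closure
  obtain ⟨a, ha⟩ := hr.ge (subset_closure (Set.mem_singleton y))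
  obtain ⟨a', ha'⟩ := hr.ge hy'
  obtain ⟨C, hCi, i, hi, hdim, hfin⟩ := HomFG.exists_curve A.hom I.subschemeι a a' (by rw [ha, ha']; exact hne.symm)
  haveI := hCi
  haveI := hi
  haveI := hfin
  haveI : IsProper ((i ≫ I.subschemeι) ≫ A.hom) := inferInstance
  haveI : IsLocallyNoetherian C := LocallyOfFiniteType.isLocallyNoetherian ((i ≫ I.subschemeι) ≫ A.hom)
  haveI : QuasiSeparatedSpace C :=
    quasiSeparatedSpace_of_quasiSeparated ((i ≫ I.subschemeι) ≫ A.hom)
  haveI : QuasiCompact (C.fromSpecStalk (genericPoint C)) := inferInstance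
  haveI : QuasiSeparated (C.fromSpecStalk (genericPoint C)) := inferInstance
  let q := (i ≫ I.subschemeι) ≫ A.hom
  haveI : CompactSpace C := QuasiCompact.compactSpace_of_compactSpace q
  haveI : AlgebraicGeometry.IsNoetherian C := ⟨⟩
  have hN : ∀ U : C.affineOpens, CAlg.IsNagata Γ(C, (U : C.Opens)) := fun U => by
    letI : Algebra k Γ(C, (U : C.Opens)) := ((q.appLE ⊤ U le_top).hom.comp (Scheme.ΓSpecIso (CommRingCat.of k)).inv.hom).toAlgebra
    haveI : Algebra.FiniteType k Γ(C, (U : C.Opens)) :=
      RingHom.FiniteType.comp (q.finiteType_appLE (isAffineOpen_top _) U.2 le_top)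
        (RingHom.FiniteType.of_surjective _
          (ConcreteCategory.bijective_of_isIso (Scheme.ΓSpecIso (CommRingCat.of k)).inv).2)
    exact N2.isNagata_of_finiteType_alg (CharRing.isNagata_field (K := k)) _
  haveI hnfin : IsFinite (Curv2.normalizationι C) := NormFib.isFinite_of_nagata hN
  let f : Curv2.normalization C ⟶ A.left := Curv2.normalizationι C ≫ i ≫ I.subschemeι
  haveI : IsFinite f := inferInstance
  let T : Over (Spec (CommRingCat.of k)) := Over.mk (f ≫ A.hom)
  let g : T ⟶ A := Over.homMk f rfl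
  haveI : IsProper T.hom := inferInstanceAs (IsProper (f ≫ A.hom))
  haveI : IsIntegral T.left := inferInstanceAs (IsIntegral (Curv2.normalization C))
  haveI : IsLocallyNoetherian (Curv2.normalization C) :=
    LocallyOfFiniteType.isLocallyNoetherian (Curv2.normalizationι C)
  haveI : IsLocallyNoetherian T.left := inferInstanceAs (IsLocallyNoetherian (Curv2.normalization C))
  have hd : topologicalKrullDim (Curv2.normalization C) ≤ 1 :=
    (AlgSp.topologicalKrullDim_le_of_isIntegralHom (Curv2.normalizationι C)).trans hdim.le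
  have hsurj : Function.Surjective (Curv2.normalizationι C) := fun x => by
    have h1 : IsClosed (Set.range (Curv2.normalizationι C)) := (Curv2.normalizationι C).isClosedMap.isClosed_range
    exact (h1.closure_subset_iff.2 (Set.singleton_subset_iff.2 ⟨_, NormFib.map_genericPoint⟩))
      ((genericPoint_spec C).def.ge (Set.mem_univ x))
  refine ⟨T, g, inferInstance, Cube.geometricallyIntegral_of_isIntegral _, inferInstance,
    inferInstanceAs (IsFinite f), Euler.isPrincipalIdealRing_stalk hd
      (fun z _ => CurveResol29.isRegular_normalization hdim.le hnfin z), fun z => ?_, ?_⟩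
  · refine (closure_minimal (Set.singleton_subset_iff.2 hy) hc) (hr.le ⟨_, rfl⟩)
  · by_contra h
    push_neg at h
    haveI : Subsingleton C := ⟨fun x x' => by
      obtain ⟨z, rfl⟩ := hsurj x
      obtain ⟨z', rfl⟩ := hsurj x'
      rw [h z z']⟩
    have h0 : topologicalKrullDim C ≤ 0 := by
      haveI : DiscreteTopology C := inferInstance
      exact topologicalKrullDim_zero_of_discreteTopology C
    rw [hdim] at h0
    exact absurd h0 (by decide)

variable {φ : ∀ T : Over (Spec (CommRingCat.of k)), PicF.Cl (PicF.XT A.hom T) → (T ⟶ At)}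
  (hφ : AbDual.IsDualAV Scheme.fppfPrecoverage A At φ)

/-- The slice of the Poincaré class at a dual point. -/
abbrev slice (x : 𝟙_ (Over (Spec (CommRingCat.of k))) ⟶ At) : A ⟶ A ⊗ At := lift (𝟙 A) (toUnit A ≫ x)

include hφ in
/-- Translation classes of an ample class are slices of the Poincaré class. -/
theorem exists_slice_eq {p : Pic (A ⊗ At).left} (hp : PolSym15.IsUniv φ p) (z : Pic A.left)
    (a : 𝟙_ (Over (Spec (CommRingCat.of k))) ⟶ A) :
    ∃ x : 𝟙_ (Over (Spec (CommRingCat.of k))) ⟶ At,
      pull (slice x).left p = addClass (𝟙 A) (toUnit A ≫ a) z := by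
  let ψ := MumfordPoincare.psi φ z
  have key : pull (A ◁ ψ).left p = MumfordPoincare.lam z := by
    refine Dual.eq_of_dphi hφ (hp.pz.pullT ψ) (MumfordPoincare.pz_lam z) ?_ ?_
    · have e : lift (1 : A ⟶ A) (𝟙 A) ≫ A ◁ ψ = ψ ≫ lift (1 : At ⟶ A) (𝟙 At) := by
        apply CartesianMonoidalCategory.hom_ext <;> simp [MonObj.comp_one]
      rw [CubeRel26.pull_pull_over, e, ← CubeRel26.pull_pull_over, hp.rig, map_one, MumfordPoincare.lam,
        KL.pull_sec_mc]
    · rw [Dual.dphi_pull hφ hp.pz, hp.dphi, Category.comp_id]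
      rfl
  refine ⟨a ≫ ψ, ?_⟩
  have h := congrArg (pull (lift (𝟙 A) (toUnit A ≫ a)).left) key
  rw [CubeRel26.pull_pull_over, MumfordPoincare.lam, KL.mc, pull_addClass, lift_fst, lift_snd_assoc,
    Category.comp_id] at h
  rw [← h]
  refine congrArg (fun f : A ⟶ A ⊗ At => pull f.left p) ?_
  apply CartesianMonoidalCategory.hom_ext <;> simp [slice]

/-- If all translations of a nondegenerate class agree on a proper integral curve, it maps to finitely many points. -/
theorem finite_image_of_translations {T : Over (Spec (CommRingCat.of k))} [IsProper T.hom]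
    [GeometricallyIntegral T.hom] (g : T ⟶ A) (z : Pic A.left)
    (hz : (stab z : Set (𝟙_ (Over (Spec (CommRingCat.of k))) ⟶ A)).Finite)
    (h : ∀ a : 𝟙_ (Over (Spec (CommRingCat.of k))) ⟶ A, addClass g (toUnit T ≫ a) z = 1) :
    (Set.range fun c : 𝟙_ (Over (Spec (CommRingCat.of k))) ⟶ T => c ≫ g).Finite := by
  haveI : IsCommMonObj A := isCommMonObj_abVar
  haveI : IsIntegral A.left := GeometricallyIntegral.isIntegral_of_subsingleton A.hom
  rcases isEmpty_or_nonempty (𝟙_ (Over (Spec (CommRingCat.of k))) ⟶ T) with hE | ⟨⟨c₀⟩⟩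
  · exact Set.finite_range _
  let y : Pic (T ⊗ A).left := addClass (fst T A ≫ g) (snd T A) z
  let m : Pic A.left := pull (lift (toUnit A ≫ c₀) (𝟙 A)).left y
  have hs : ∀ a : 𝟙_ (Over (Spec (CommRingCat.of k))) ⟶ A, pull (lift (𝟙 T) (toUnit T ≫ a)).left y = 1 := fun a => by
    rw [pull_addClass, lift_fst_assoc, lift_snd, Category.id_comp]
    exact h a
  have hy : y * (pull (snd T A).left m)⁻¹ = 1 := by
    refine eq_one_of_dense_slices (normal_abVar A) c₀ _ (dense_closedPoints A) subset_rfl (fun a _ => ?_) ?_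
    · rw [map_mul, map_inv, hs a, pull_pull_over, lift_snd, pull_toUnit_comp, inv_one, _root_.mul_one]
    · rw [map_mul, map_inv, pull_pull_over _ (snd T A), lift_snd, pull_over_id, mul_inv_cancel]
  rw [mul_inv_eq_one] at hy
  have hc : ∀ c : 𝟙_ (Over (Spec (CommRingCat.of k))) ⟶ T, pull (transl (c ≫ g)).left z = m * z := fun c => by
    have e := congrArg (pull (lift (toUnit A ≫ c) (𝟙 A)).left) hy
    rw [pull_pull_over _ (snd T A), lift_snd, pull_over_id, pull_addClass, lift_fst_assoc, lift_snd, addClass,
      Category.assoc, pull_toUnit_comp, _root_.one_mul, pull_over_id, mul_inv_eq_iff_eq_mul,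
      mul_comm (toUnit A ≫ c ≫ g) (𝟙 A)] at e
    exact e
  haveI := hz.to_subtype
  refine Set.Finite.subset (Set.finite_range fun s : (stab z : Set _) => s.1 * (c₀ ≫ g)) ?_
  rintro _ ⟨c, rfl⟩
  refine ⟨⟨(c ≫ g) * (c₀ ≫ g)⁻¹, ?_⟩, inv_mul_cancel_right _ _⟩
  show pull (transl ((c ≫ g) * (c₀ ≫ g)⁻¹)).left z = z
  have h0 : pull (transl (c₀ ≫ g)⁻¹).left (m * z) = z := by
    rw [← hc c₀, pull_pull_over, transl_comp, inv_mul_cancel, transl_one, pull_over_id]
  rw [mul_comm (c ≫ g), ← transl_comp, ← pull_pull_over, hc c]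
  exact h0

include hφ in
/-- **A coherent module fixed by every class in the Poincaré family has finite support.** -/
theorem finite_support {P : (pullback A.hom At.hom).Modules} (hP : PicF.IsInvertible P)
    (hξ : AbDual.IsPoincareCl A At φ (PicF.cl P)) {E : A.left.Modules} (hE : Coh.IsCoh E)
    (hinv : ∀ x : 𝟙_ (Over (Spec (CommRingCat.of k))) ⟶ At,
      Nonempty (CohB1.tensorMod E ((Scheme.Modules.pullback (slice x).left).obj P) ≅ E)) :
    (CohB1.support E).Finite := by
  by_contra hinf
  obtain ⟨T, g, hT1, hT2, hT3, hgf, hpid, hgS, z₁, z₂, hne⟩ :=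
    exists_normal_curve (QCoh.isClosed_support_of_isCoh hE) hinf
  haveI := hT1
  haveI := hT2
  haveI := hT3
  haveI := hgf
  haveI : IsLocallyNoetherian T.left := LocallyOfFiniteType.isLocallyNoetherian T.hom
  have hEg : Coh.IsCoh ((Scheme.Modules.pullback g.left).obj E) := ModDesc.isCoh_pullback g.left _ hE
  obtain ⟨r, hr, htriv⟩ := exists_pow_trivial hpid hEg (by
    rw [QCoh.support_pullback g.left E hE]
    exact hgS _)
  have hp := PolSym15.isUniv_of_isPoincareCl (hasCls_clsMod (X := (A ⊗ At).left) hP) hξ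
  obtain ⟨L, hL⟩ := Cube.exists_isAmple A
  let z := clsMod hL.1
  have hfin : (stab z : Set (𝟙_ (Over (Spec (CommRingCat.of k))) ⟶ A)).Finite :=
    finite_stab z fun q => exists_hasSec_of_isAmple hL q
  -- each restricted slice is killed by `r`
  have hpow : ∀ a : 𝟙_ (Over (Spec (CommRingCat.of k))) ⟶ A, addClass g (toUnit T ≫ a) z ^ r = 1 := fun a => by
    obtain ⟨x, hx⟩ := exists_slice_eq hφ hp z a
    let N := (Scheme.Modules.pullback g.left).obj ((Scheme.Modules.pullback (slice x).left).obj P)
    have hN : HasCls N (addClass g (toUnit T ≫ a) z) := by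
      have h1 := ((hasCls_clsMod (X := (A ⊗ At).left) hP).pullback (slice x).left).pullback g.left
      rw [hx, pull_addClass, Category.comp_id] at h1
      rwa [show g ≫ toUnit A ≫ a = toUnit T ≫ a by rw [← Category.assoc, comp_toUnit]] at h1
    obtain ⟨φN⟩ := hinv x
    have e := htriv N hN.1 ⟨(OX.pullTensorIso g.left E _).symm ≪≫ (Scheme.Modules.pullback g.left).mapIso φN⟩
    have h2 := (hasCls_clsMod (isInvertible_tensorPow hN.1 r)).eq (hasCls_structureModule T.left) e
    rw [clsMod_tensorPow hN.1] at h2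
    rwa [show clsMod hN.1 = addClass g (toUnit T ≫ a) z from (hasCls_clsMod hN.1).eq hN ⟨Iso.refl _⟩] at h2
  let hom : (𝟙_ (Over (Spec (CommRingCat.of k))) ⟶ A) →* Pic T.left :=
    (pull (lift g (toUnit T)).left).comp (KL.mcHom z)
  have hhom : ∀ a, hom a = addClass g (toUnit T ≫ a) z := fun a => by
    show pull (lift g (toUnit T)).left (KL.mc z a) = _
    rw [KL.mc, pull_addClass, lift_fst, lift_snd_assoc]
  have h1 : ∀ a : 𝟙_ (Over (Spec (CommRingCat.of k))) ⟶ A, addClass g (toUnit T ≫ a) z = 1 := fun a => by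
    obtain ⟨b, rfl⟩ := PicZeroPts.exists_root a hr.ne'
    rw [← hhom, map_pow, hhom]
    exact hpow b
  have himg := finite_image_of_translations g z hfin h1
  haveI : Finite {σ : Spec (CommRingCat.of k) ⟶ T.left // σ ≫ T.hom = 𝟙 _} := by
    have hs : (Set.univ : Set (𝟙_ (Over (Spec (CommRingCat.of k))) ⟶ T)).Finite := by
      refine Set.Finite.of_finite_fibers (f := fun c => c ≫ g) (himg.subset (by rintro _ ⟨c, -, rfl⟩; exact ⟨c, rfl⟩))
        fun a _ => ?_
      refine ((IsFinite.finite_preimage_singleton g.left (a.left (IsLocalRing.closedPoint k))).subset ?_).of_finite_image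
        (f := fun c : 𝟙_ (Over (Spec (CommRingCat.of k))) ⟶ T => c.left (IsLocalRing.closedPoint k)) ?_
      · rintro _ ⟨c, ⟨-, hc⟩, rfl⟩
        show g.left (c.left _) = a.left _
        rw [← Scheme.Hom.comp_apply, ← Over.comp_left, show c ≫ g = a from hc]
      · exact fun c _ c' _ h => Over.OverMorphism.ext (ext_of_apply_closedPoint_eq T.hom (Over.w c) (Over.w c') h)
    haveI := Set.finite_univ_iff.1 hs
    exact Finite.of_injective (fun σ => (Over.homMk σ.1 σ.2 : 𝟙_ (Over (Spec (CommRingCat.of k))) ⟶ T))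
      fun σ σ' h => Subtype.ext (congrArg CategoryTheory.Over.Hom.left h)
  haveI : Finite T.left := AbVanish15.finite_of_finite_sections T.hom
  haveI : JacobsonSpace T.left := LocallyOfFiniteType.jacobsonSpace T.hom
  have hall : ∀ w : T.left, IsClosed ({w} : Set T.left) := fun w => by
    have h := closure_closedPoints (X := T.left)
    have hc : IsClosed (closedPoints T.left) := by
      rw [← Set.biUnion_of_singleton (closedPoints T.left)]
      exact Set.Finite.isClosed_biUnion (Set.toFinite _) fun z hz => hz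
    rw [hc.closure_eq] at h
    exact (h.ge trivial : w ∈ closedPoints T.left)
  exact hne (((hall _).closure_eq.le ((genericPoint_spec T.left).def.ge (Set.mem_univ z₁))).trans
    ((hall _).closure_eq.le ((genericPoint_spec T.left).def.ge (Set.mem_univ z₂))).symm)

end GrothLib.FinSupp15
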