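import Groth.Agent.Lib.DetTwist15.Basic
import Groth.Agent.Lib.TensorPerf20.FlatKernel
import Groth.Agent.Lib.Seesaw26.LocalGood
import Groth.Agent.Lib.Euler.Torsion
import Groth.Agent.Lib.CMReg.Sequences

/-!
# Twists by invertible modules: derived form, and invariance on regular curves
-/

set_option autoImplicit false
set_option linter.all false
set_option backward.isDefEq.respectTransparency false
set_option maxHeartbeats 1000000

universe u

open CategoryTheory CategoryTheory.Limits AlgebraicGeometry HomologicalComplex TopologicalSpace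
open GrothLib.InvExt (mres IsGen mres_mres)
open GrothLib.FinCov (IsFrame)

attribute [local instance] HasDerivedCategory.standard

noncomputable section

namespace GrothLib.FinSupp15

variable {X : Scheme.{u}}

/-- Tensoring with an invertible module is exact. -/
theorem exact_tF {N : X.Modules} (hN : PicF.IsInvertible N) :
    PreservesFiniteLimits (Euler.tF N) ∧ PreservesFiniteColimits (Euler.tF N) := by
  obtain ⟨hl, hr⟩ := FunMor20.exact_pullback_tensor (𝟭 X.Modules) (𝟙 X) N
    (Seesaw26.isFlatOver_of_isInvertible (𝟙 X) hN)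
  let η : (𝟭 X.Modules) ⋙ Scheme.Modules.pullback (𝟙 X) ⋙ DCoh.tensorRightMod N ≅ Euler.tF N :=
    Functor.leftUnitor _ ≪≫ Functor.isoWhiskerRight (Scheme.Modules.pullbackId X) _ ≪≫ Functor.leftUnitor _ ≪≫
      OX.tensorRightModIso N
  haveI := hl
  haveI := hr
  exact ⟨preservesFiniteLimits_of_natIso η, preservesFiniteColimits_of_natIso η⟩

/-- The cohomology sheaves of a derived twist. -/
theorem nonempty_HD_twist {N : X.Modules} (hN : PicF.IsInvertible N) [DCoh.HasLTensorMod N] (G : DCoh.D X) (i : ℤ) :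
    Nonempty (DCoh.HD ((DCoh.LTensorMod N).obj G) i ≅ CohB1.tensorMod (DCoh.HD G i) N) := by
  obtain ⟨P, hP, ⟨e⟩⟩ := OX.exists_kflat_rep G
  obtain ⟨w⟩ := OX.hd_ltensor N P hP e i
  obtain ⟨hl, hr⟩ := exact_tF hN
  haveI := hl
  haveI := hr
  let T := Euler.tF N
  haveI : T.Additive := inferInstance
  haveI : T.PreservesHomology := inferInstance
  let c : (OX.tensorModCx N).obj P ≅ (T.mapHomologicalComplex (ComplexShape.up ℤ)).obj P :=
    HomologicalComplex.Hom.isoOfComponents (fun n => Iso.refl _) (fun m n _ => by simp [T])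
  exact ⟨w ≪≫ (homologyFunctor X.Modules (ComplexShape.up ℤ) i).mapIso c ≪≫ (P.sc i).mapHomologyIso T ≪≫
    T.mapIso ((OX.hdIso P i).symm ≪≫ (DerivedCategory.homologyFunctor X.Modules i).mapIso e)⟩

variable [IsIntegral X]

/-- A map from a module vanishing at the generic point to a locally free one vanishes. -/
theorem eq_zero_of_subsingleton_generic {T Q : X.Modules} (α : T ⟶ Q) (hQ : FlatMod.IsFinLocFree Q)
    (hT : Subsingleton (T.presheaf.stalk (genericPoint X))) : α = 0 := by
  have h : ∀ (U : X.Opens) (s : Γ(T, U)), α.app U s = 0 := by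
    intro U s
    choose D n e hxD he using fun x : U => FinCov.exists_frame_nhd hQ x.1
    refine Ample.meq_of_cover Q (fun x : U => U ⊓ D x) (fun x => inf_le_left)
      (fun x hx => Opens.mem_iSup.mpr ⟨⟨x, hx⟩, hx, hxD _⟩) fun x => ?_
    rw [← Ample.app_mres, show mres Q (inf_le_left : U ⊓ D x ≤ U) (0 : Γ(Q, U)) = 0 from map_zero _]
    have hη : genericPoint X ∈ U ⊓ D x :=
      ((genericPoint_spec X).specializes trivial).mem_open (U ⊓ D x).2 (show x.1 ∈ U ⊓ D x from ⟨x.2, hxD x⟩)
    refine Euler.eq_zero_of_frame_of_germ_generic (he x) inf_le_right hη _ ?_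
    rw [← QCoh.stalkLin_germ, Subsingleton.elim (T.presheaf.germ _ _ hη _) 0, map_zero]
  ext U s
  exact h U s

theorem isFinLocFree_twist {Q N : X.Modules} {r : ℕ} (hQ : FlatMod.IsFinLocFreeOfRank r Q)
    (hN : PicF.IsInvertible N) : FlatMod.IsFinLocFree (CohB1.tensorMod Q N) := by
  intro x
  obtain ⟨U, e, hxU, he⟩ := FinCov.exists_frame_nhd_of_rank hQ x
  obtain ⟨U', n, hxU', hn⟩ := InvExt.exists_gen_nhd hN x
  have he' : IsFrame Q (U ⊓ U') fun i => mres Q inf_le_left (e i) := fun W h => by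
    have := he W (h.trans inf_le_left)
    convert this using 3 with c i
    exact congrArg (c i • ·) (mres_mres Q (inf_le_left : U ⊓ U' ≤ U) h (e i))
  exact ⟨U ⊓ U', r, ⟨hxU, hxU'⟩, FinCov.exists_iso_of_frame (DegDet.isFrame_tm_gen he' (hn.restrict inf_le_right))⟩

/-- On a regular curve a coherent module of positive rank is fixed only by torsion line bundles. -/
theorem exists_pow_trivial [IsLocallyNoetherian X] (hpid : ∀ x : X, IsPrincipalIdealRing (X.presheaf.stalk x))
    {E : X.Modules} (hE : Coh.IsCoh E) (hη : genericPoint X ∈ CohB1.support E) :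
    ∃ r : ℕ, 0 < r ∧ ∀ N : X.Modules, PicF.IsInvertible N → Nonempty (CohB1.tensorMod E N ≅ E) →
      Nonempty (CohB1.tensorPow N r ≅ Coh.structureModule X) := by
  obtain ⟨T, Q, ι, π, w, hS, hTc, hQc, hTη, hQtf⟩ := Euler.exists_torsion_sequence hE
  have hQ := Euler.isFinLocFreeOfRank_of_torsionFree hpid hQc hQtf
  have hT0 : Subsingleton (T.presheaf.stalk (genericPoint X)) := not_not.1 hTη
  have hr : 0 < Euler.grank Q := Nat.pos_of_ne_zero fun h0 => hη (by
    rw [h0] at hQ
    haveI := Euler.stalk_subsingleton_of_rank_zero hQ (genericPoint X)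
    haveI := hT0
    have hex : Function.Exact (QCoh.stalkLin ι (genericPoint X)) (QCoh.stalkLin π (genericPoint X)) :=
      (ShortComplex.ShortExact.moduleCat_exact_iff_function_exact _).1 ((OX.exact_iff _).1 hS.exact _)
    refine subsingleton_of_forall_eq 0 fun m => ?_
    obtain ⟨t, rfl⟩ := (hex m).1 (Subsingleton.elim _ _)
    rw [Subsingleton.elim t 0, map_zero])
  refine ⟨_, hr, fun N hN ⟨φ⟩ => ?_⟩
  obtain ⟨hl, hr'⟩ := exact_tF hN
  haveI := hl
  haveI := hr'
  haveI : (Euler.tF N).Additive := inferInstance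
  haveI : (Euler.tF N).PreservesZeroMorphisms := inferInstance
  let S := ShortComplex.mk ι π w
  have hS' := hS.map_of_exact (Euler.tF N)
  haveI := hS.epi_g
  haveI := hS'.epi_g
  have hTN : Subsingleton (((Euler.tF N).obj T).presheaf.stalk (genericPoint X)) := by
    by_contra h
    exact hTη (CMReg.support_tensorMod_subset T N hN h)
  let φ' : (Euler.tF N).obj E ≅ E := φ
  have h1 : (S.map (Euler.tF N)).f ≫ φ'.hom ≫ π = 0 :=
    eq_zero_of_subsingleton_generic _ (fun x => let ⟨U, hx, e⟩ := hQ x; ⟨U, _, hx, e⟩) hTN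
  have h2 : ι ≫ φ'.inv ≫ (Euler.tF N).map π = 0 :=
    eq_zero_of_subsingleton_generic _ (isFinLocFree_twist hQ hN) hT0
  let a : (Euler.tF N).obj Q ⟶ Q := hS'.gIsCokernel.desc (CokernelCofork.ofπ (φ'.hom ≫ π) h1)
  let b : Q ⟶ (Euler.tF N).obj Q := hS.gIsCokernel.desc (CokernelCofork.ofπ (φ'.inv ≫ (Euler.tF N).map π) h2)
  have ha : (Euler.tF N).map π ≫ a = φ'.hom ≫ π :=
    hS'.gIsCokernel.fac (CokernelCofork.ofπ (φ'.hom ≫ π) h1) WalkingParallelPair.one
  have hb : π ≫ b = φ'.inv ≫ (Euler.tF N).map π :=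
    hS.gIsCokernel.fac (CokernelCofork.ofπ (φ'.inv ≫ (Euler.tF N).map π) h2) WalkingParallelPair.one
  haveI : Epi ((Euler.tF N).map π) := hS'.epi_g
  haveI : Epi π := hS.epi_g
  have hab : a ≫ b = 𝟙 _ := by
    rw [← cancel_epi ((Euler.tF N).map π), reassoc_of% ha, hb, φ'.hom_inv_id_assoc, Category.comp_id]
  have hba : b ≫ a = 𝟙 _ := by
    rw [← cancel_epi π, reassoc_of% hb, ha, φ'.inv_hom_id_assoc, Category.comp_id]
  exact DetTwist15.nonempty_tensorPow_iso ⟨a, b, hab, hba⟩ hQ hN

end GrothLib.FinSupp15
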